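import Mathlib

/-! # The group of affine maps `v ↦ M v + a` acting diagonally on several copies of `Rⁿ` -/

set_option autoImplicit false

namespace Cfsg.Agent.A10Spec

/-- an invertible matrix together with a family of translation vectors -/
@[ext]
structure Aff (R : Type) [CommRing R] (n : ℕ) (ι : Type) where
  /-- the linear part -/
  k : (Matrix (Fin n) (Fin n) R)ˣ
  /-- the translation parts -/
  a : ι → Fin n → R

namespace Aff

variable {R : Type} [CommRing R] {n : ℕ} {ι : Type}

instance : Mul (Aff R n ι) :=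
  ⟨fun x y => ⟨x.k * y.k, fun i => x.a i + (x.k : Matrix (Fin n) (Fin n) R).mulVec (y.a i)⟩⟩

instance : One (Aff R n ι) := ⟨⟨1, fun _ => 0⟩⟩

instance : Inv (Aff R n ι) :=
  ⟨fun x => ⟨x.k⁻¹, fun i => -((x.k⁻¹ : (Matrix (Fin n) (Fin n) R)ˣ) :
    Matrix (Fin n) (Fin n) R).mulVec (x.a i)⟩⟩

theorem mul_k (x y : Aff R n ι) : (x * y).k = x.k * y.k := rfl

theorem mul_a (x y : Aff R n ι) (i : ι) :
    (x * y).a i = x.a i + (x.k : Matrix (Fin n) (Fin n) R).mulVec (y.a i) := rfl

theorem one_k : (1 : Aff R n ι).k = 1 := rfl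

theorem one_a (i : ι) : (1 : Aff R n ι).a i = 0 := rfl

theorem inv_k (x : Aff R n ι) : (x⁻¹).k = x.k⁻¹ := rfl

theorem inv_a (x : Aff R n ι) (i : ι) : (x⁻¹).a i =
    -((x.k⁻¹ : (Matrix (Fin n) (Fin n) R)ˣ) : Matrix (Fin n) (Fin n) R).mulVec (x.a i) := rfl

instance : Group (Aff R n ι) where
  mul_assoc x y z := by
    ext1
    · exact mul_assoc _ _ _
    · funext i
      simp only [mul_a, mul_k, Units.val_mul, Matrix.mulVec_add, Matrix.mulVec_mulVec, add_assoc]
  one_mul x := by
    ext1
    · exact one_mul _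
    · funext i
      simp only [mul_a, one_a, one_k, Units.val_one, Matrix.one_mulVec, zero_add]
  mul_one x := by
    ext1
    · exact mul_one _
    · funext i
      simp only [mul_a, one_a, Matrix.mulVec_zero, add_zero]
  inv_mul_cancel x := by
    ext1
    · exact inv_mul_cancel _
    · funext i
      simp only [mul_a, inv_a, inv_k, one_a, neg_add_cancel]

/-- the powers of an affine map -/
theorem pow_k (x : Aff R n ι) (m : ℕ) : (x ^ m).k = x.k ^ m := by
  induction m with
  | zero => rfl
  | succ m ih => rw [pow_succ, mul_k, ih, pow_succ]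

theorem pow_a (x : Aff R n ι) (m : ℕ) (i : ι) :
    (x ^ m).a i = (∑ j ∈ Finset.range m, (x.k : Matrix (Fin n) (Fin n) R) ^ j).mulVec (x.a i) := by
  induction m with
  | zero => simp [one_a]
  | succ m ih =>
    rw [pow_succ, mul_a, ih, pow_k, Finset.sum_range_succ, Matrix.add_mulVec, Units.val_pow_eq_pow_val]

/-- the projection to the linear part -/
def proj : Aff R n ι →* (Matrix (Fin n) (Fin n) R)ˣ where
  toFun x := x.k
  map_one' := rfl
  map_mul' _ _ := rfl

/-- the linear maps as affine maps -/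
def lin : (Matrix (Fin n) (Fin n) R)ˣ →* Aff R n ι where
  toFun g := ⟨g, fun _ => 0⟩
  map_one' := rfl
  map_mul' g h := by
    ext1
    · rfl
    · funext i
      simp only [mul_a, Matrix.mulVec_zero, add_zero]

theorem lin_injective : Function.Injective (lin : (Matrix (Fin n) (Fin n) R)ˣ →* Aff R n ι) := by
  intro g h e
  exact congrArg Aff.k e

/-- an element whose linear part has `m`-th power one and whose geometric sum is killed by `t`
has order dividing `m * t` -/
theorem orderOf_dvd_of (x : Aff R n ι) (m t : ℕ)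
    (hm : (x.k : Matrix (Fin n) (Fin n) R) ^ m = 1)
    (ht : t • ∑ j ∈ Finset.range m, (x.k : Matrix (Fin n) (Fin n) R) ^ j = 0) :
    orderOf x ∣ m * t := by
  apply orderOf_dvd_of_pow_eq_one
  rw [pow_mul]
  ext1
  · rw [pow_k, pow_k, one_k]
    have : x.k ^ m = 1 := Units.ext (by rw [Units.val_pow_eq_pow_val, hm]; rfl)
    rw [this, one_pow]
  · funext i
    rw [pow_a, one_a, pow_k]
    have h1 : x.k ^ m = 1 := Units.ext (by rw [Units.val_pow_eq_pow_val, hm]; rfl)
    rw [h1]
    simp only [Units.val_one, one_pow, Finset.sum_const, Finset.card_range]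
    rw [pow_a, Matrix.mulVec_mulVec, smul_mul_assoc, one_mul, ht, Matrix.zero_mulVec]

end Aff

end Cfsg.Agent.A10Spec
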