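import Mathlib

/-! # The element orders of the alternating group of degree 10 -/

set_option autoImplicit false

namespace Cfsg.Agent.A10Spec

/-- the list of element orders -/
def specL : List ℕ := [1, 2, 3, 4, 5, 6, 7, 8, 9, 10, 12, 15, 21]

/-- the test of all ways to go on: `acc` is the least common multiple of the parts so far, `par`
tells whether the sum of the parts plus their number is even so far, `budget` bounds the sum of the
further parts, `fuel` their number -/
def chk : ℕ → ℕ → ℕ → Bool → Bool
  | 0, _, acc, par => !par || specL.contains acc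
  | fuel + 1, budget, acc, par =>
    (!par || specL.contains acc) &&
      (List.range (budget + 1)).all fun a =>
        decide (a < 2) || chk fuel (budget - a) (Nat.lcm acc a) (if a % 2 = 0 then !par else par)

theorem chk_now {fuel budget acc : ℕ} {par : Bool} (h : chk fuel budget acc par = true)
    (hp : par = true) : acc ∈ specL := by
  cases fuel with
  | zero =>
    unfold chk at h
    rw [hp] at h
    simpa using h
  | succ fuel =>
    unfold chk at h
    rw [hp, Bool.and_eq_true] at h
    simpa using h.1

theorem chk_sound : ∀ (l : List ℕ) (fuel budget acc : ℕ) (par : Bool),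
    chk fuel budget acc par = true → l.length ≤ fuel → (∀ x ∈ l, 2 ≤ x) → l.sum ≤ budget →
    (par = true ↔ Even (l.sum + l.length)) → l.foldl Nat.lcm acc ∈ specL
  | [], fuel, budget, acc, par, h, _, _, _, hpar => by
    apply chk_now h
    rw [hpar]
    simp
  | a :: l, 0, budget, acc, par, _, hlen, _, _, _ => by
    simp at hlen
  | a :: l, fuel + 1, budget, acc, par, h, hlen, h2, hsum, hpar => by
    unfold chk at h
    rw [Bool.and_eq_true, List.all_eq_true] at h
    have ha2 : 2 ≤ a := h2 a (List.mem_cons_self ..)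
    have hab : a ≤ budget := by
      rw [List.sum_cons] at hsum
      omega
    have h3 := h.2 a (List.mem_range.2 (by omega))
    rw [Bool.or_eq_true, decide_eq_true_eq] at h3
    rcases h3 with h3 | h3
    · omega
    · rw [List.foldl_cons]
      apply chk_sound l fuel (budget - a) (Nat.lcm acc a) _ h3
      · simpa using hlen
      · intro x hx
        exact h2 x (List.mem_cons_of_mem _ hx)
      · rw [List.sum_cons] at hsum
        omega
      · rw [List.sum_cons, List.length_cons] at hpar
        by_cases hev : a % 2 = 0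
        · rw [if_pos hev]
          have : Even (a + l.sum + (l.length + 1)) ↔ ¬ Even (l.sum + l.length) := by
            rw [Nat.even_iff, Nat.even_iff]
            omega
          rw [this] at hpar
          cases par <;> simp_all
        · rw [if_neg hev]
          have : Even (a + l.sum + (l.length + 1)) ↔ Even (l.sum + l.length) := by
            rw [Nat.even_iff, Nat.even_iff]
            omega
          rw [this] at hpar
          exact hpar

theorem chk_ten : chk 5 10 1 true = true := by decide +kernel

/-- the set of element orders -/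
def specF' : Finset ℕ := {1, 2, 3, 4, 5, 6, 7, 8, 9, 10, 12, 15, 21}

theorem orderOf_mem_of_alt (σ : Equiv.Perm (Fin 10)) (hσ : σ ∈ alternatingGroup (Fin 10)) :
    orderOf σ ∈ specF' := by
  rw [Equiv.Perm.mem_alternatingGroup, Equiv.Perm.sign_of_cycleType] at hσ
  have hev : Even (σ.cycleType.sum + Multiset.card σ.cycleType) := by
    by_contra hodd
    rw [Nat.not_even_iff_odd] at hodd
    rw [Odd.neg_one_pow hodd] at hσ
    revert hσ
    decide
  have hsum : σ.cycleType.sum ≤ 10 := by
    have := σ.sum_cycleType_le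
    simpa using this
  have h2 : ∀ x ∈ σ.cycleType, 2 ≤ x := fun x hx => Equiv.Perm.two_le_of_mem_cycleType hx
  rw [← Equiv.Perm.lcm_cycleType]
  obtain ⟨l, hl⟩ := Quot.exists_rep σ.cycleType
  have hl' : σ.cycleType = (l : Multiset ℕ) := hl.symm
  rw [hl'] at hev hsum h2 ⊢
  rw [Multiset.sum_coe, Multiset.coe_card] at hev
  rw [Multiset.sum_coe] at hsum
  have hlen : l.length ≤ 5 := by
    have h3 : 2 * l.length ≤ l.sum := by
      have : ∀ l : List ℕ, (∀ x ∈ l, 2 ≤ x) → 2 * l.length ≤ l.sum := by
        intro l
        induction l with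
        | nil => intro _; simp
        | cons a l ih =>
          intro h
          rw [List.length_cons, List.sum_cons]
          have := ih (fun x hx => h x (List.mem_cons_of_mem _ hx))
          have := h a (List.mem_cons_self ..)
          omega
      exact this l (fun x hx => h2 x (by simpa using hx))
    omega
  have key := chk_sound l 5 10 1 true chk_ten hlen (fun x hx => h2 x (by simpa using hx)) hsum
    (by simpa using hev)
  have hfold : (l : Multiset ℕ).lcm = l.foldl Nat.lcm 1 := by
    unfold Multiset.lcm
    rw [Multiset.coe_fold_l]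
    rfl
  rw [hfold]
  simp only [specL, List.mem_cons, List.not_mem_nil, or_false] at key
  simp only [specF', Finset.mem_insert, Finset.mem_singleton]
  exact key

end Cfsg.Agent.A10Spec

namespace Cfsg.Agent.A10Spec

/-- the product of a list of transpositions -/
def swaps (l : List (Fin 10 × Fin 10)) : Equiv.Perm (Fin 10) :=
  (l.map fun p => Equiv.swap p.1 p.2).prod

theorem sign_swaps : ∀ l : List (Fin 10 × Fin 10), (∀ p ∈ l, p.1 ≠ p.2) →
    Equiv.Perm.sign (swaps l) = (-1) ^ l.length
  | [], _ => by simp [swaps]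
  | p :: l, h => by
    have ih := sign_swaps l (fun q hq => h q (List.mem_cons_of_mem _ hq))
    unfold swaps at ih ⊢
    rw [List.map_cons, List.prod_cons, Equiv.Perm.sign_mul,
      Equiv.Perm.sign_swap (h p (List.mem_cons_self ..)), ih, List.length_cons, pow_succ]
    simp

/-- the test that a product of transpositions is an even permutation of order `n` -/
def altOK (l : List (Fin 10 × Fin 10)) (n : ℕ) : Bool :=
  l.all (fun p => p.1 != p.2) && decide (l.length % 2 = 0) && decide (swaps l ^ n = 1) &&
    (List.range n).all fun m => m == 0 || decide (swaps l ^ m ≠ 1)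

theorem altOK_sound {l : List (Fin 10 × Fin 10)} {n : ℕ} (hn : 0 < n) (h : altOK l n = true) :
    ∃ σ : ↥(alternatingGroup (Fin 10)), orderOf σ = n := by
  unfold altOK at h
  simp only [Bool.and_eq_true, List.all_eq_true, bne_iff_ne, ne_eq, decide_eq_true_eq,
    List.mem_range, Bool.or_eq_true, beq_iff_eq, decide_not, Bool.not_eq_eq_eq_not, Bool.not_true,
    decide_eq_false_iff_not] at h
  obtain ⟨⟨⟨h1, h2⟩, h3⟩, h4⟩ := h
  have hmem : swaps l ∈ alternatingGroup (Fin 10) := by
    rw [Equiv.Perm.mem_alternatingGroup, sign_swaps l (fun p hp => h1 p hp)]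
    exact Even.neg_one_pow (Nat.even_iff.2 h2)
  refine ⟨⟨swaps l, hmem⟩, ?_⟩
  rw [← Subgroup.orderOf_coe]
  show orderOf (swaps l) = n
  rw [orderOf_eq_iff hn]
  refine ⟨h3, fun m hm hm0 => ?_⟩
  rcases h4 m hm with h5 | h5
  · omega
  · exact h5

theorem chk_alt8 : altOK [(0,1),(1,2),(2,3),(3,4),(4,5),(5,6),(6,7),(8,9)] 8 = true := by
  decide +kernel
theorem chk_alt9 : altOK [(0,1),(1,2),(2,3),(3,4),(4,5),(5,6),(6,7),(7,8)] 9 = true := by
  decide +kernel
theorem chk_alt10 : altOK [(0,1),(1,2),(2,3),(3,4),(5,6),(7,8)] 10 = true := by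
  decide +kernel
theorem chk_alt12 : altOK [(0,1),(1,2),(2,3),(4,5),(5,6),(7,8)] 12 = true := by
  decide +kernel
theorem chk_alt15 : altOK [(0,1),(1,2),(2,3),(3,4),(5,6),(6,7)] 15 = true := by
  decide +kernel
theorem chk_alt21 : altOK [(0,1),(1,2),(2,3),(3,4),(4,5),(5,6),(7,8),(8,9)] 21 = true := by
  decide +kernel

theorem exists_orderOf_of_dvd' {G : Type*} [Group G] (w : G) {n : ℕ} (hn : n ∣ orderOf w)
    (h0 : orderOf w ≠ 0) : ∃ x : G, orderOf x = n := by
  obtain ⟨d, hd⟩ := hn
  have hd0 : d ≠ 0 := by
    rintro rfl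
    exact h0 (by rw [hd, mul_zero])
  refine ⟨w ^ d, ?_⟩
  rw [orderOf_pow_of_dvd hd0 ⟨n, by rw [hd, mul_comm]⟩, hd,
    Nat.mul_div_cancel _ (Nat.pos_of_ne_zero hd0)]

theorem specF'_cover : ∀ n ∈ specF', n ∣ 8 ∨ n ∣ 9 ∨ n ∣ 10 ∨ n ∣ 12 ∨ n ∣ 15 ∨ n ∣ 21 := by
  decide

/-- the set of element orders of the alternating group of degree 10 -/
theorem range_orderOf_alt :
    Set.range (orderOf : ↥(alternatingGroup (Fin 10)) → ℕ) = (specF' : Set ℕ) := by
  apply Set.Subset.antisymm
  · rintro _ ⟨σ, rfl⟩
    rw [← Subgroup.orderOf_coe]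
    exact orderOf_mem_of_alt σ.1 σ.2
  · intro n hn
    obtain ⟨w8, h8⟩ := altOK_sound (by norm_num) chk_alt8
    obtain ⟨w9, h9⟩ := altOK_sound (by norm_num) chk_alt9
    obtain ⟨w10, h10⟩ := altOK_sound (by norm_num) chk_alt10
    obtain ⟨w12, h12⟩ := altOK_sound (by norm_num) chk_alt12
    obtain ⟨w15, h15⟩ := altOK_sound (by norm_num) chk_alt15
    obtain ⟨w21, h21⟩ := altOK_sound (by norm_num) chk_alt21
    rcases specF'_cover n hn with h | h | h | h | h | h
    · exact exists_orderOf_of_dvd' w8 (by rw [h8]; exact h) (by rw [h8]; norm_num)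
    · exact exists_orderOf_of_dvd' w9 (by rw [h9]; exact h) (by rw [h9]; norm_num)
    · exact exists_orderOf_of_dvd' w10 (by rw [h10]; exact h) (by rw [h10]; norm_num)
    · exact exists_orderOf_of_dvd' w12 (by rw [h12]; exact h) (by rw [h12]; norm_num)
    · exact exists_orderOf_of_dvd' w15 (by rw [h15]; exact h) (by rw [h15]; norm_num)
    · exact exists_orderOf_of_dvd' w21 (by rw [h21]; exact h) (by rw [h21]; norm_num)

end Cfsg.Agent.A10Spec
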