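import Cfsg.Agent.Lib.Lead.A10Spec.Data

/-! # The finite checks for the group of 240 matrices: definitions, generators, closure -/

set_option autoImplicit false
set_option maxRecDepth 1000000

namespace Cfsg.Agent.A10Spec

/-- the sum `1 + X + ⋯ + X ^ (k - 1)`, for `X` given by its columns -/
def horner (q n : ℕ) (Xt : List (List ℕ)) : ℕ → List (List ℕ)
  | 0 => zeroL n
  | k + 1 => addL q n (idL n) (mulT q (horner q n Xt k) Xt)

/-- the set of element orders of the alternating group of degree 10 -/
def specA : List ℕ := [1, 2, 3, 4, 5, 6, 7, 8, 9, 10, 12, 15, 21]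

/-- the test of a generator and its inverse -/
def genOK (g gi gt : List (List ℕ)) : Bool :=
  (gt == transp 12 g) && (mulT 21 g (transp 12 gi) == idL 12) && (mulT 21 gi gt == idL 12)

/-- the test of the products of one element with the generators -/
def closeOne (E : List (List (List ℕ))) (ec : List (List ℕ) × (ℕ × ℕ × ℕ)) : Bool :=
  (E.getD ec.2.1 [] == mulT 21 ec.1 gAt) && (E.getD ec.2.2.1 [] == mulT 21 ec.1 gBt) &&
    (E.getD ec.2.2.2 [] == mulT 21 ec.1 gCt) && decide (ec.2.1 < E.length) &&
    decide (ec.2.2.1 < E.length) && decide (ec.2.2.2 < E.length)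

/-- the test of the numbers `m`, `t` of one element -/
def ordOne (ec : List (List ℕ) × (ℕ × ℕ)) : Bool :=
  (mulT 21 (horner 21 12 (transp 12 ec.1) ec.2.1) (transp 12 ec.1) ==
      horner 21 12 (transp 12 ec.1) ec.2.1) &&
    killed 21 12 ec.2.2 (horner 21 12 (transp 12 ec.1) ec.2.1) && specA.contains (ec.2.1 * ec.2.2)

/-- a slice of a list -/
def slice {α : Type} (l : List α) (s i : ℕ) : List α := (l.drop (s * i)).take s

theorem all_of_slices {α : Type} (l : List α) (f : α → Bool) (s c : ℕ) (hs : 0 < s)
    (hlen : l.length ≤ s * c) (h : ∀ i < c, (slice l s i).all f = true) : l.all f = true := by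
  rw [List.all_eq_true]
  intro x hx
  obtain ⟨j, hj, rfl⟩ := List.mem_iff_getElem.1 hx
  have hi : j / s < c := by
    apply Nat.div_lt_of_lt_mul
    omega
  have h1 := h (j / s) hi
  rw [List.all_eq_true] at h1
  apply h1
  unfold slice
  rw [List.mem_iff_getElem]
  have hjs : j = s * (j / s) + j % s := (Nat.div_add_mod j s).symm
  have hmod : j % s < s := Nat.mod_lt _ hs
  refine ⟨j % s, ?_, ?_⟩
  · rw [List.length_take, List.length_drop]
    omega
  · rw [List.getElem_take, List.getElem_drop]
    congr 1
    omega

theorem chk_gA : genOK gA gAi gAt = true := by decide +kernel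
theorem chk_gB : genOK gB gBi gBt = true := by decide +kernel
theorem chk_gC : genOK gC gCi gCt = true := by decide +kernel

theorem chk_one : elems.getD 0 [] = idL 12 := by decide +kernel

theorem chk_len : elems.length = 240 ∧ closeC.length = 240 ∧ ordC.length = 240 := by
  decide +kernel

set_option maxHeartbeats 0 in
theorem chk_close0 : (slice (elems.zip closeC) 40 0).all (closeOne elems) = true := by
  decide +kernel
set_option maxHeartbeats 0 in
theorem chk_close1 : (slice (elems.zip closeC) 40 1).all (closeOne elems) = true := by
  decide +kernel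
set_option maxHeartbeats 0 in
theorem chk_close2 : (slice (elems.zip closeC) 40 2).all (closeOne elems) = true := by
  decide +kernel
set_option maxHeartbeats 0 in
theorem chk_close3 : (slice (elems.zip closeC) 40 3).all (closeOne elems) = true := by
  decide +kernel
set_option maxHeartbeats 0 in
theorem chk_close4 : (slice (elems.zip closeC) 40 4).all (closeOne elems) = true := by
  decide +kernel
set_option maxHeartbeats 0 in
theorem chk_close5 : (slice (elems.zip closeC) 40 5).all (closeOne elems) = true := by
  decide +kernel

theorem chk_close : (elems.zip closeC).all (closeOne elems) = true := by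
  apply all_of_slices _ _ 40 6 (by norm_num)
  · rw [List.length_zip, chk_len.1, chk_len.2.1]; norm_num
  · intro i hi
    interval_cases i
    · exact chk_close0
    · exact chk_close1
    · exact chk_close2
    · exact chk_close3
    · exact chk_close4
    · exact chk_close5

end Cfsg.Agent.A10Spec
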