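import Cfsg.Agent.Lib.Lead.A10Spec.Check

/-! # The finite checks for the group of 240 matrices: the numbers `m`, `t` -/

set_option autoImplicit false
set_option maxRecDepth 1000000

namespace Cfsg.Agent.A10Spec

set_option maxHeartbeats 0 in
theorem chk_ord0 : (slice (elems.zip ordC) 10 0).all ordOne = true := by
  decide +kernel
set_option maxHeartbeats 0 in
theorem chk_ord1 : (slice (elems.zip ordC) 10 1).all ordOne = true := by
  decide +kernel
set_option maxHeartbeats 0 in
theorem chk_ord2 : (slice (elems.zip ordC) 10 2).all ordOne = true := by
  decide +kernel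
set_option maxHeartbeats 0 in
theorem chk_ord3 : (slice (elems.zip ordC) 10 3).all ordOne = true := by
  decide +kernel
set_option maxHeartbeats 0 in
theorem chk_ord4 : (slice (elems.zip ordC) 10 4).all ordOne = true := by
  decide +kernel
set_option maxHeartbeats 0 in
theorem chk_ord5 : (slice (elems.zip ordC) 10 5).all ordOne = true := by
  decide +kernel

end Cfsg.Agent.A10Spec
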