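import Cfsg.Agent.Lib.Lead.A10Spec.Check

/-! # The finite checks for the group of 240 matrices: the numbers `m`, `t` -/

set_option autoImplicit false
set_option maxRecDepth 1000000

namespace Cfsg.Agent.A10Spec

set_option maxHeartbeats 0 in
theorem chk_ord18 : (slice (elems.zip ordC) 10 18).all ordOne = true := by
  decide +kernel
set_option maxHeartbeats 0 in
theorem chk_ord19 : (slice (elems.zip ordC) 10 19).all ordOne = true := by
  decide +kernel
set_option maxHeartbeats 0 in
theorem chk_ord20 : (slice (elems.zip ordC) 10 20).all ordOne = true := by
  decide +kernel
set_option maxHeartbeats 0 in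
theorem chk_ord21 : (slice (elems.zip ordC) 10 21).all ordOne = true := by
  decide +kernel
set_option maxHeartbeats 0 in
theorem chk_ord22 : (slice (elems.zip ordC) 10 22).all ordOne = true := by
  decide +kernel
set_option maxHeartbeats 0 in
theorem chk_ord23 : (slice (elems.zip ordC) 10 23).all ordOne = true := by
  decide +kernel

end Cfsg.Agent.A10Spec
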