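import Cfsg.Agent.Lib.Lead.A10Spec.Wit

/-! # The family `HH ι`: its set of element orders and its cardinality -/

set_option autoImplicit false

namespace Cfsg.Agent.A10Spec

theorem uA_mem : uA ∈ KK := Subgroup.subset_closure (by simp)
theorem uB_mem : uB ∈ KK := Subgroup.subset_closure (by simp)
theorem uC_mem : uC ∈ KK := Subgroup.subset_closure (by simp)

theorem val_mul_gen {k : Matˣ} {c g gt : List (List ℕ)} (hk : (k : Mat) = toM 21 12 c)
    (u : Matˣ) (hu : (u : Mat) = toM 21 12 g) (hgt : gt = transp 12 g) :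
    ((k * u : Matˣ) : Mat) = toM 21 12 (mulT 21 c gt) := by
  rw [Units.val_mul, hk, hu, hgt, toM_mulT_transp]

/-- the elements of the orders 10, 8, 3, 5 -/
def k10 : Matˣ := uA * uB
/-- see `k10` -/
def k8 : Matˣ := uA * uB * uC
/-- see `k10` -/
def k3 : Matˣ := uB * uB
/-- see `k10` -/
def k5 : Matˣ := uA * uA * uA * uB

theorem k10_mem : k10 ∈ KK := KK.mul_mem uA_mem uB_mem
theorem k8_mem : k8 ∈ KK := KK.mul_mem k10_mem uC_mem
theorem k3_mem : k3 ∈ KK := KK.mul_mem uB_mem uB_mem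
theorem k5_mem : k5 ∈ KK := KK.mul_mem (KK.mul_mem (KK.mul_mem uA_mem uA_mem) uA_mem) uB_mem

theorem val_k10 : (k10 : Mat) = toM 21 12 c10 :=
  val_mul_gen (g := gB) rfl uB rfl (genOK_sound chk_gB).1
theorem val_k8 : (k8 : Mat) = toM 21 12 c8 :=
  val_mul_gen (g := gC) val_k10 uC rfl (genOK_sound chk_gC).1
theorem val_k3 : (k3 : Mat) = toM 21 12 c3 :=
  val_mul_gen (g := gB) rfl uB rfl (genOK_sound chk_gB).1
theorem val_k5 : (k5 : Mat) = toM 21 12 c5 :=
  val_mul_gen (g := gB) (val_mul_gen (g := gA) (val_mul_gen (g := gA) rfl uA rfl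
    (genOK_sound chk_gA).1) uA rfl (genOK_sound chk_gA).1) uB rfl (genOK_sound chk_gB).1

variable {ι : Type}

theorem lin_mem {k : Matˣ} (hk : k ∈ KK) : (Aff.lin k : Aff (ZMod 21) 12 ι) ∈ HH ι := hk

theorem orderOf_lin {k : Matˣ} {c : List (List ℕ)} {n : ℕ} (hk : (k : Mat) = toM 21 12 c)
    (hn : 0 < n) (h : ordExact c n = true) : orderOf (Aff.lin k : Aff (ZMod 21) 12 ι) = n := by
  rw [orderOf_injective Aff.lin Aff.lin_injective, ← orderOf_units, hk]
  exact ordExact_sound hn h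

/-- an element with a given linear part and the same unit vector in all translation parts -/
def wit (ι : Type) (k : Matˣ) (c : Fin 12) : Aff (ZMod 21) 12 ι := ⟨k, fun _ => Pi.single c 1⟩

theorem wit_mem {k : Matˣ} (hk : k ∈ KK) (c : Fin 12) : wit ι k c ∈ HH ι := hk

theorem wit_pow_ne_one [Nonempty ι] {k : Matˣ} {cd : List (List ℕ)} (hk : (k : Mat) = toM 21 12 cd)
    (c : Fin 12) (m : ℕ) (r : Fin 12)
    (h : Nat.mod (ent (horner 21 12 (transp 12 cd) m) r.val c.val) 21 = 7) :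
    wit ι k c ^ m ≠ 1 := by
  intro h1
  have i : ι := Classical.arbitrary ι
  have h2 : ((wit ι k c) ^ m).a i r = 0 := by rw [h1]; rfl
  rw [Aff.pow_a] at h2
  have h3 : (wit ι k c).a i = Pi.single c 1 := rfl
  have h4 : ((wit ι k c).k : Mat) = toM 21 12 cd := hk
  rw [h3, h4, ← toM_horner, Matrix.mulVec_single_one] at h2
  have h5 : toM 21 12 (horner 21 12 (transp 12 cd) m) r c = 0 := h2
  rw [toM_apply, ZMod.natCast_eq_zero_iff] at h5
  have h6 : ent (horner 21 12 (transp 12 cd) m) r.val c.val % 21 = 7 := h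
  omega

theorem orderOf_wit3 [Nonempty ι] : orderOf (wit ι k3 6) = 9 := by
  obtain ⟨a1, a2, -⟩ := ordOne_sound chk_w3
  have h1 : orderOf (wit ι k3 6) ∣ 3 * 3 := by
    apply Aff.orderOf_dvd_of
    · show (k3 : Mat) ^ 3 = 1
      rw [val_k3]; exact a1
    · show 3 • ∑ j ∈ Finset.range 3, (k3 : Mat) ^ j = 0
      rw [val_k3]; exact a2
  have h2 : wit ι k3 6 ^ 3 ≠ 1 := wit_pow_ne_one val_k3 6 3 0 chk_w3'
  have h3 : ¬ orderOf (wit ι k3 6) ∣ 3 := fun h => h2 (orderOf_dvd_iff_pow_eq_one.1 h)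
  have h1' : orderOf (wit ι k3 6) ∣ 3 ^ 2 := by simpa using h1
  obtain ⟨j, hj, hj2⟩ := (Nat.dvd_prime_pow Nat.prime_three).1 h1'
  interval_cases j
  · exfalso; apply h3; rw [hj2]; norm_num
  · exfalso; apply h3; rw [hj2]; norm_num
  · rw [hj2]; norm_num

theorem orderOf_wit5 [Nonempty ι] : orderOf (wit ι k5 3) = 15 := by
  obtain ⟨a1, a2, -⟩ := ordOne_sound chk_w5
  have h1 : orderOf (wit ι k5 3) ∣ 5 * 3 := by
    apply Aff.orderOf_dvd_of
    · show (k5 : Mat) ^ 5 = 1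
      rw [val_k5]; exact a1
    · show 3 • ∑ j ∈ Finset.range 5, (k5 : Mat) ^ j = 0
      rw [val_k5]; exact a2
  have h2 : wit ι k5 3 ^ 5 ≠ 1 := wit_pow_ne_one val_k5 3 5 0 chk_w5'
  have h3 : wit ι k5 3 ^ 3 ≠ 1 := by
    intro h
    have h4 := congrArg Aff.k h
    rw [Aff.pow_k] at h4
    have h5 : (k5 : Mat) ^ 3 = 1 := by
      have := congrArg Units.val h4
      rwa [Units.val_pow_eq_pow_val] at this
    apply neOne_sound chk_w5''
    show toM 21 12 _ = 1
    rw [toM_powL, ← val_k5]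
    exact h5
  have h6 : orderOf (wit ι k5 3) ∈ Nat.divisors 15 := Nat.mem_divisors.2 ⟨h1, by norm_num⟩
  have h7 : Nat.divisors 15 = {1, 3, 5, 15} := by decide
  rw [h7] at h6
  simp only [Finset.mem_insert, Finset.mem_singleton] at h6
  rcases h6 with h | h | h | h
  · exfalso; apply h3; rw [← orderOf_dvd_iff_pow_eq_one, h]; norm_num
  · exfalso; apply h3; rw [← orderOf_dvd_iff_pow_eq_one, h]
  · exfalso; apply h2; rw [← orderOf_dvd_iff_pow_eq_one, h]
  · exact h

theorem orderOf_wit1 [Nonempty ι] : orderOf (wit ι 1 0) = 21 := by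
  have h1 : orderOf (wit ι 1 0) ∣ 1 * 21 := by
    apply Aff.orderOf_dvd_of
    · show ((1 : Matˣ) : Mat) ^ 1 = 1
      simp
    · show 21 • ∑ j ∈ Finset.range 1, ((1 : Matˣ) : Mat) ^ j = 0
      simp only [Finset.range_one, Finset.sum_singleton, pow_zero]
      ext i j
      rw [Matrix.smul_apply, Matrix.zero_apply, nsmul_eq_mul]
      have : ((21 : ℕ) : ZMod 21) = 0 := by decide
      rw [this, zero_mul]
  have h2 : 21 ∣ orderOf (wit ι 1 0) := by
    have i : ι := Classical.arbitrary ι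
    have h3 : (wit ι 1 0 ^ orderOf (wit ι 1 0)).a i 0 = 0 := by rw [pow_orderOf_eq_one]; rfl
    rw [Aff.pow_a] at h3
    have h4 : (wit ι 1 0).a i = Pi.single 0 1 := rfl
    have h5 : ((wit ι 1 0).k : Mat) = 1 := rfl
    rw [h4, h5] at h3
    simp only [one_pow, Finset.sum_const, Finset.card_range] at h3
    rw [Matrix.smul_mulVec, Matrix.one_mulVec, Pi.smul_apply, Pi.single_eq_same, nsmul_one] at h3
    exact (ZMod.natCast_eq_zero_iff _ _).1 h3
  exact Nat.dvd_antisymm (by simpa using h1) h2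

end Cfsg.Agent.A10Spec

namespace Cfsg.Agent.A10Spec

variable {ι : Type}

theorem exists_orderOf_of_dvd {G : Type*} [Group G] (w : G) {n : ℕ} (hn : n ∣ orderOf w)
    (h0 : orderOf w ≠ 0) : ∃ x : G, orderOf x = n := by
  obtain ⟨d, hd⟩ := hn
  have hd0 : d ≠ 0 := by
    rintro rfl
    exact h0 (by rw [hd, mul_zero])
  have hn0 : n ≠ 0 := by
    rintro rfl
    exact h0 (by rw [hd, zero_mul])
  refine ⟨w ^ d, ?_⟩
  rw [orderOf_pow_of_dvd hd0 ⟨n, by rw [hd, mul_comm]⟩, hd, Nat.mul_div_cancel _ (Nat.pos_of_ne_zero hd0)]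

theorem specF_cover : ∀ n ∈ specF, n ∣ 8 ∨ n ∣ 9 ∨ n ∣ 10 ∨ n ∣ 12 ∨ n ∣ 15 ∨ n ∣ 21 := by decide

theorem range_orderOf_HH [Nonempty ι] :
    Set.range (orderOf : ↥(HH ι) → ℕ) = (specF : Set ℕ) := by
  apply Set.Subset.antisymm
  · rintro _ ⟨x, rfl⟩
    exact orderOf_mem_specF x
  · intro n hn
    have w8 : orderOf (⟨Aff.lin k8, lin_mem k8_mem⟩ : ↥(HH ι)) = 8 := by
      rw [← Subgroup.orderOf_coe]; exact orderOf_lin val_k8 (by norm_num) chk_w8
    have w10 : orderOf (⟨Aff.lin k10, lin_mem k10_mem⟩ : ↥(HH ι)) = 10 := by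
      rw [← Subgroup.orderOf_coe]; exact orderOf_lin val_k10 (by norm_num) chk_w10
    have w12 : orderOf (⟨Aff.lin uC, lin_mem uC_mem⟩ : ↥(HH ι)) = 12 := by
      rw [← Subgroup.orderOf_coe]; exact orderOf_lin (c := gC) rfl (by norm_num) chk_w12
    have w9 : orderOf (⟨wit ι k3 6, wit_mem k3_mem 6⟩ : ↥(HH ι)) = 9 := by
      rw [← Subgroup.orderOf_coe]; exact orderOf_wit3
    have w15 : orderOf (⟨wit ι k5 3, wit_mem k5_mem 3⟩ : ↥(HH ι)) = 15 := by
      rw [← Subgroup.orderOf_coe]; exact orderOf_wit5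
    have w21 : orderOf (⟨wit ι 1 0, wit_mem KK.one_mem 0⟩ : ↥(HH ι)) = 21 := by
      rw [← Subgroup.orderOf_coe]; exact orderOf_wit1
    rcases specF_cover n hn with h | h | h | h | h | h
    · exact exists_orderOf_of_dvd _ (by rw [w8]; exact h) (by rw [w8]; norm_num)
    · exact exists_orderOf_of_dvd _ (by rw [w9]; exact h) (by rw [w9]; norm_num)
    · exact exists_orderOf_of_dvd _ (by rw [w10]; exact h) (by rw [w10]; norm_num)
    · exact exists_orderOf_of_dvd _ (by rw [w12]; exact h) (by rw [w12]; norm_num)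
    · exact exists_orderOf_of_dvd _ (by rw [w15]; exact h) (by rw [w15]; norm_num)
    · exact exists_orderOf_of_dvd _ (by rw [w21]; exact h) (by rw [w21]; norm_num)

instance [Finite ι] : Finite (Aff (ZMod 21) 12 ι) := by
  have hinj : Function.Injective
      (fun x : Aff (ZMod 21) 12 ι => ((x.k : Mat), x.a)) := by
    intro x y h
    have h1 : (x.k : Mat) = y.k := congrArg Prod.fst h
    have h2 : x.a = y.a := congrArg Prod.snd h
    exact Aff.ext (Units.ext h1) h2
  exact Finite.of_injective _ hinj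

theorem card_HH_ge [Finite ι] : 21 ^ Nat.card ι ≤ Nat.card ↥(HH ι) := by
  have hinj : Function.Injective (fun a : ι → ZMod 21 =>
      (⟨⟨1, fun i => Pi.single 0 (a i)⟩, KK.one_mem⟩ : ↥(HH ι))) := by
    intro a b h
    funext i
    have h1 := congrArg (fun x : ↥(HH ι) => x.1.a i 0) h
    simpa using h1
  have := Nat.card_le_card_of_injective _ hinj
  rwa [Nat.card_fun, Nat.card_zmod] at this

end Cfsg.Agent.A10Spec
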