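import Mathlib

/-! # Square matrices over `ZMod q` given by lists of rows of natural numbers

The products are computed on the lists with arithmetic of natural numbers only. -/

set_option autoImplicit false

namespace Cfsg.Agent.A10Spec

/-- an entry of a matrix given by its rows -/
def ent (X : List (List ℕ)) (i j : ℕ) : ℕ := (X.getD i []).getD j 0

/-- the product of a row and a column, added to `acc` -/
def dotN : List ℕ → List ℕ → ℕ → ℕ
  | a :: as, b :: bs, acc => dotN as bs (Nat.add acc (Nat.mul a b))
  | [], _, acc => acc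
  | _ :: _, [], acc => acc

/-- the product of a matrix given by its rows and a matrix given by its columns, by its rows -/
def mulT (q : ℕ) (X Yt : List (List ℕ)) : List (List ℕ) :=
  X.map fun r => Yt.map fun c => Nat.mod (dotN r c 0) q

/-- the table of a function -/
def tab (n : ℕ) (f : ℕ → ℕ → ℕ) : List (List ℕ) :=
  (List.range n).map fun i => (List.range n).map fun j => f i j

/-- the transposed matrix -/
def transp (n : ℕ) (Y : List (List ℕ)) : List (List ℕ) := tab n fun i j => ent Y j i

/-- the identity matrix -/
def idL (n : ℕ) : List (List ℕ) := tab n fun i j => if i = j then 1 else 0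

/-- the zero matrix -/
def zeroL (n : ℕ) : List (List ℕ) := tab n fun _ _ => 0

/-- the sum of two matrices -/
def addL (q n : ℕ) (X Y : List (List ℕ)) : List (List ℕ) :=
  tab n fun i j => Nat.mod (Nat.add (ent X i j) (ent Y i j)) q

/-- the test that `t * X` vanishes modulo `q` -/
def killed (q n t : ℕ) (X : List (List ℕ)) : Bool :=
  (List.range n).all fun i => (List.range n).all fun j => Nat.mod (Nat.mul t (ent X i j)) q == 0

/-- the denoted matrix -/
def toM (q n : ℕ) (X : List (List ℕ)) : Matrix (Fin n) (Fin n) (ZMod q) :=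
  fun i j => (ent X i.val j.val : ZMod q)

theorem toM_apply (q n : ℕ) (X : List (List ℕ)) (i j : Fin n) :
    toM q n X i j = (ent X i.val j.val : ZMod q) := rfl

theorem ent_tab (n : ℕ) (f : ℕ → ℕ → ℕ) {i j : ℕ} (hi : i < n) (hj : j < n) :
    ent (tab n f) i j = f i j := by
  unfold ent tab
  have h1 : ((List.range n).map fun i => (List.range n).map fun j => f i j).getD i [] =
      (List.range n).map fun j => f i j := by
    rw [List.getD_eq_getElem _ _ (by rw [List.length_map, List.length_range]; exact hi),
      List.getElem_map, List.getElem_range]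
  rw [h1, List.getD_eq_getElem _ _ (by rw [List.length_map, List.length_range]; exact hj),
    List.getElem_map, List.getElem_range]

theorem dotN_eq : ∀ (r c : List ℕ) (acc n : ℕ), c.length ≤ n →
    dotN r c acc = acc + ∑ k ∈ Finset.range n, r.getD k 0 * c.getD k 0
  | [], c, acc, n, _ => by simp [dotN]
  | a :: as, [], acc, n, _ => by simp [dotN]
  | a :: as, b :: bs, acc, 0, h => by simp at h
  | a :: as, b :: bs, acc, n + 1, h => by
    rw [dotN, Finset.sum_range_succ', dotN_eq as bs _ n (by simpa using h)]
    simp only [List.getD_cons_succ, List.getD_cons_zero]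
    show acc + a * b + _ = _
    ring

/-- all columns have length at most `n` -/
def colsOK (n : ℕ) (Yt : List (List ℕ)) : Prop := ∀ c ∈ Yt, c.length ≤ n

theorem ent_mulT {q n : ℕ} (X Yt : List (List ℕ)) (h : colsOK n Yt) (i j : ℕ) :
    (ent (mulT q X Yt) i j : ZMod q) = ∑ k ∈ Finset.range n, (ent X i k : ZMod q) * ent Yt j k := by
  unfold ent mulT
  by_cases hi : i < X.length
  · have h1 : (X.map fun r => Yt.map fun c => Nat.mod (dotN r c 0) q).getD i [] =
        Yt.map fun c => Nat.mod (dotN (X.getD i []) c 0) q := by
      rw [List.getD_eq_getElem _ _ (by rw [List.length_map]; exact hi), List.getElem_map,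
        List.getD_eq_getElem X _ hi]
    rw [h1]
    by_cases hj : j < Yt.length
    · have h2 : (Yt.map fun c => Nat.mod (dotN (X.getD i []) c 0) q).getD j 0 =
          Nat.mod (dotN (X.getD i []) (Yt.getD j []) 0) q := by
        rw [List.getD_eq_getElem _ _ (by rw [List.length_map]; exact hj), List.getElem_map,
          List.getD_eq_getElem Yt _ hj]
      rw [h2]
      have h3 : (Yt.getD j []).length ≤ n := by
        apply h
        rw [List.getD_eq_getElem Yt _ hj]
        exact List.getElem_mem hj
      rw [dotN_eq _ _ 0 n h3, zero_add]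
      show ((_ % q : ℕ) : ZMod q) = _
      rw [ZMod.natCast_mod]
      push_cast
      rfl
    · have h2 : (Yt.map fun c => Nat.mod (dotN (X.getD i []) c 0) q).getD j 0 = 0 :=
        List.getD_eq_default _ _ (by rw [List.length_map]; exact Nat.le_of_not_lt hj)
      rw [h2, List.getD_eq_default Yt _ (Nat.le_of_not_lt hj)]
      simp
  · have h1 : (X.map fun r => Yt.map fun c => Nat.mod (dotN r c 0) q).getD i [] = [] :=
      List.getD_eq_default _ _ (by rw [List.length_map]; exact Nat.le_of_not_lt hi)
    rw [h1, List.getD_eq_default X _ (Nat.le_of_not_lt hi)]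
    simp

theorem colsOK_tab (n : ℕ) (f : ℕ → ℕ → ℕ) : colsOK n (tab n f) := by
  intro c hc
  unfold tab at hc
  rw [List.mem_map] at hc
  obtain ⟨i, -, rfl⟩ := hc
  rw [List.length_map, List.length_range]

theorem toM_mulT_transp (q n : ℕ) (X Y : List (List ℕ)) :
    toM q n (mulT q X (transp n Y)) = toM q n X * toM q n Y := by
  ext i j
  rw [toM_apply, ent_mulT X (transp n Y) (colsOK_tab n _), Matrix.mul_apply,
    ← Fin.sum_univ_eq_sum_range (fun k => (ent X i.val k : ZMod q) * ent (transp n Y) j.val k) n]
  apply Finset.sum_congr rfl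
  intro k _
  rw [toM_apply, toM_apply]
  unfold transp
  rw [ent_tab n _ j.isLt k.isLt]

theorem toM_idL (q n : ℕ) : toM q n (idL n) = 1 := by
  ext i j
  rw [toM_apply]
  unfold idL
  rw [ent_tab n _ i.isLt j.isLt, Matrix.one_apply]
  by_cases h : i = j
  · rw [if_pos h, if_pos (congrArg _ h)]; simp
  · rw [if_neg h, if_neg (fun h' => h (Fin.ext h'))]; simp

theorem toM_zeroL (q n : ℕ) : toM q n (zeroL n) = 0 := by
  ext i j
  rw [toM_apply]
  unfold zeroL
  rw [ent_tab n _ i.isLt j.isLt]
  simp

theorem toM_addL (q n : ℕ) (X Y : List (List ℕ)) :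
    toM q n (addL q n X Y) = toM q n X + toM q n Y := by
  ext i j
  rw [toM_apply, Matrix.add_apply, toM_apply, toM_apply]
  unfold addL
  rw [ent_tab n _ i.isLt j.isLt]
  show (((ent X i.val j.val + ent Y i.val j.val) % q : ℕ) : ZMod q) = _
  rw [ZMod.natCast_mod]
  push_cast
  rfl

theorem toM_killed {q n t : ℕ} {X : List (List ℕ)} (h : killed q n t X = true) :
    t • toM q n X = 0 := by
  unfold killed at h
  rw [List.all_eq_true] at h
  ext i j
  have h1 := h i.val (List.mem_range.2 i.isLt)
  rw [List.all_eq_true] at h1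
  have h2 := h1 j.val (List.mem_range.2 j.isLt)
  rw [beq_iff_eq] at h2
  rw [Matrix.smul_apply, toM_apply, Matrix.zero_apply, nsmul_eq_mul, ← Nat.cast_mul,
    ZMod.natCast_eq_zero_iff]
  exact Nat.dvd_of_mod_eq_zero h2

end Cfsg.Agent.A10Spec
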