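import Cfsg.Agent.Lib.Lead.A10Spec.CheckOrdA
import Cfsg.Agent.Lib.Lead.A10Spec.CheckOrdB
import Cfsg.Agent.Lib.Lead.A10Spec.CheckOrdC
import Cfsg.Agent.Lib.Lead.A10Spec.CheckOrdD
import Cfsg.Agent.Lib.Lead.A10Spec.Aff

/-! # A family of groups with the element orders of the alternating group of degree 10 -/

set_option autoImplicit false

namespace Cfsg.Agent.A10Spec

/-- the matrices of size 12 over `ZMod 21` -/
abbrev Mat : Type := Matrix (Fin 12) (Fin 12) (ZMod 21)

/-- the matrix of a list of rows -/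
abbrev tm (c : List (List ℕ)) : Mat := toM 21 12 c

theorem toM_horner (q n : ℕ) (X : List (List ℕ)) (k : ℕ) :
    toM q n (horner q n (transp n X) k) = ∑ j ∈ Finset.range k, toM q n X ^ j := by
  induction k with
  | zero => rw [horner, toM_zeroL]; simp
  | succ k ih =>
    rw [horner, toM_addL, toM_idL, toM_mulT_transp, ih, Finset.sum_range_succ', pow_zero,
      Finset.sum_mul, add_comm]
    congr 1

theorem ordOne_sound {e : List (List ℕ)} {m t : ℕ} (h : ordOne (e, (m, t)) = true) :
    tm e ^ m = 1 ∧ t • ∑ j ∈ Finset.range m, tm e ^ j = 0 ∧ m * t ∈ specA := by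
  unfold ordOne at h
  simp only [Bool.and_eq_true, beq_iff_eq, List.contains_iff_mem] at h
  obtain ⟨⟨h1, h2⟩, h3⟩ := h
  have h4 := congrArg (toM 21 12) h1
  rw [toM_mulT_transp, toM_horner] at h4
  have h5 := toM_killed h2
  rw [toM_horner] at h5
  refine ⟨?_, h5, h3⟩
  have h6 := geom_sum_mul (tm e) m
  rw [mul_sub, mul_one, h4, sub_self] at h6
  exact (sub_eq_zero.1 h6.symm)

theorem exists_zip {α β : Type} {l₁ : List α} {l₂ : List β} {a : α} (ha : a ∈ l₁)
    (hlen : l₁.length ≤ l₂.length) : ∃ b, (a, b) ∈ l₁.zip l₂ := by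
  obtain ⟨i, hi, rfl⟩ := List.mem_iff_getElem.1 ha
  have hi2 : i < l₂.length := lt_of_lt_of_le hi hlen
  refine ⟨l₂[i], ?_⟩
  have hz : i < (l₁.zip l₂).length := by
    rw [List.length_zip]; exact lt_min hi hi2
  have := List.getElem_mem hz
  rwa [List.getElem_zip] at this

theorem genOK_sound {g gi gt : List (List ℕ)} (h : genOK g gi gt = true) :
    gt = transp 12 g ∧ tm g * tm gi = 1 ∧ tm gi * tm g = 1 := by
  unfold genOK at h
  simp only [Bool.and_eq_true, beq_iff_eq] at h
  obtain ⟨⟨h1, h2⟩, h3⟩ := h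
  refine ⟨h1, ?_, ?_⟩
  · rw [← toM_mulT_transp, h2, toM_idL]
  · rw [← toM_mulT_transp, ← h1, h3, toM_idL]

/-- the first generator -/
def uA : Matˣ := ⟨tm gA, tm gAi, (genOK_sound chk_gA).2.1, (genOK_sound chk_gA).2.2⟩
/-- the second generator -/
def uB : Matˣ := ⟨tm gB, tm gBi, (genOK_sound chk_gB).2.1, (genOK_sound chk_gB).2.2⟩
/-- the third generator -/
def uC : Matˣ := ⟨tm gC, tm gCi, (genOK_sound chk_gC).2.1, (genOK_sound chk_gC).2.2⟩

/-- the group of 240 matrices -/
def KK : Subgroup Matˣ := Subgroup.closure {uA, uB, uC}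

theorem closeOne_sound {e : List (List ℕ)} {c : ℕ × ℕ × ℕ} (h : closeOne elems (e, c) = true) :
    mulT 21 e gAt ∈ elems ∧ mulT 21 e gBt ∈ elems ∧ mulT 21 e gCt ∈ elems := by
  unfold closeOne at h
  simp only [Bool.and_eq_true, beq_iff_eq, decide_eq_true_eq] at h
  obtain ⟨⟨⟨⟨⟨h1, h2⟩, h3⟩, h4⟩, h5⟩, h6⟩ := h
  refine ⟨?_, ?_, ?_⟩
  · rw [← h1, List.getD_eq_getElem _ _ h4]; exact List.getElem_mem h4
  · rw [← h2, List.getD_eq_getElem _ _ h5]; exact List.getElem_mem h5
  · rw [← h3, List.getD_eq_getElem _ _ h6]; exact List.getElem_mem h6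

theorem mem_elems_of_mem {k : Matˣ} (hk : k ∈ KK) : ∃ e ∈ elems, (k : Mat) = tm e := by
  have hk' : k ∈ (Subgroup.closure ({uA, uB, uC} : Set Matˣ)).toSubmonoid := hk
  rw [Subgroup.closure_toSubmonoid_of_finite] at hk'
  clear hk
  induction hk' using Submonoid.closure_induction_right with
  | one =>
    refine ⟨idL 12, ?_, ?_⟩
    · rw [← chk_one, List.getD_eq_getElem _ _ (by rw [chk_len.1]; norm_num)]
      exact List.getElem_mem _
    · exact (toM_idL 21 12).symm
  | mul_right x _ y hy ih =>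
    obtain ⟨e, he, hxe⟩ := ih
    obtain ⟨c, hc⟩ := exists_zip (l₂ := closeC) he (by rw [chk_len.1, chk_len.2.1])
    have h1 := List.all_eq_true.1 chk_close _ hc
    obtain ⟨a1, a2, a3⟩ := closeOne_sound h1
    rcases hy with rfl | rfl | rfl
    · refine ⟨_, a1, ?_⟩
      rw [Units.val_mul, hxe, (genOK_sound chk_gA).1]
      exact (toM_mulT_transp 21 12 e gA).symm
    · refine ⟨_, a2, ?_⟩
      rw [Units.val_mul, hxe, (genOK_sound chk_gB).1]
      exact (toM_mulT_transp 21 12 e gB).symm
    · refine ⟨_, a3, ?_⟩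
      rw [Units.val_mul, hxe, (genOK_sound chk_gC).1]
      exact (toM_mulT_transp 21 12 e gC).symm

theorem chk_ord : (elems.zip ordC).all ordOne = true := by
  apply all_of_slices _ _ 10 24 (by norm_num)
  · rw [List.length_zip, chk_len.1, chk_len.2.2]; norm_num
  · intro i hi
    interval_cases i
    · exact chk_ord0
    · exact chk_ord1
    · exact chk_ord2
    · exact chk_ord3
    · exact chk_ord4
    · exact chk_ord5
    · exact chk_ord6
    · exact chk_ord7
    · exact chk_ord8
    · exact chk_ord9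
    · exact chk_ord10
    · exact chk_ord11
    · exact chk_ord12
    · exact chk_ord13
    · exact chk_ord14
    · exact chk_ord15
    · exact chk_ord16
    · exact chk_ord17
    · exact chk_ord18
    · exact chk_ord19
    · exact chk_ord20
    · exact chk_ord21
    · exact chk_ord22
    · exact chk_ord23

/-- the set of element orders of the alternating group of degree 10 -/
def specF : Finset ℕ := {1, 2, 3, 4, 5, 6, 7, 8, 9, 10, 12, 15, 21}

theorem specF_dvd : ∀ s ∈ specF, ∀ d ∈ Nat.divisors s, d ∈ specF := by decide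

theorem mem_specF_of_mem_specA {s : ℕ} (h : s ∈ specA) : s ∈ specF := by
  simp only [specA, List.mem_cons, List.not_mem_nil, or_false] at h
  simp only [specF, Finset.mem_insert, Finset.mem_singleton]
  exact h

/-- the subgroup of the affine group over the group of 240 matrices -/
def HH (ι : Type) : Subgroup (Aff (ZMod 21) 12 ι) := KK.comap Aff.proj

theorem orderOf_mem_specF {ι : Type} (x : ↥(HH ι)) : orderOf x ∈ specF := by
  have hx : x.1.k ∈ KK := x.2
  obtain ⟨e, he, hke⟩ := mem_elems_of_mem hx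
  obtain ⟨mt, hmt⟩ := exists_zip (l₂ := ordC) he (by rw [chk_len.1, chk_len.2.2])
  have h1 := List.all_eq_true.1 chk_ord _ hmt
  obtain ⟨m, t⟩ := mt
  obtain ⟨a1, a2, a3⟩ := ordOne_sound h1
  have h2 : orderOf x.1 ∣ m * t := by
    apply Aff.orderOf_dvd_of
    · rw [hke]; exact a1
    · rw [hke]; exact a2
  rw [← Subgroup.orderOf_coe]
  have h3 := mem_specF_of_mem_specA a3
  have hne : m * t ≠ 0 := by
    intro h0
    rw [h0] at h3
    revert h3
    decide
  exact specF_dvd _ h3 _ (Nat.mem_divisors.2 ⟨h2, hne⟩)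

end Cfsg.Agent.A10Spec
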