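import Cfsg.Agent.Lib.Lead.A10Spec.Sound

/-! # Elements of the orders 8, 9, 10, 12, 15, 21, and the cardinality -/

set_option autoImplicit false
set_option maxRecDepth 1000000

namespace Cfsg.Agent.A10Spec

/-- powers, for `X` given by its columns -/
def powL (q n : ℕ) (Xt : List (List ℕ)) : ℕ → List (List ℕ)
  | 0 => idL n
  | k + 1 => mulT q (powL q n Xt k) Xt

theorem toM_powL (q n : ℕ) (X : List (List ℕ)) (k : ℕ) :
    toM q n (powL q n (transp n X) k) = toM q n X ^ k := by
  induction k with
  | zero => rw [powL, toM_idL, pow_zero]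
  | succ k ih => rw [powL, toM_mulT_transp, ih, pow_succ]

/-- the test that a matrix of size 12 over `ZMod 21` is not the identity -/
def neOne (c : List (List ℕ)) : Bool :=
  (List.range 12).any fun i => (List.range 12).any fun j =>
    Nat.mod (ent c i j) 21 != (if i = j then 1 else 0)

theorem neOne_sound {c : List (List ℕ)} (h : neOne c = true) : tm c ≠ 1 := by
  unfold neOne at h
  simp only [List.any_eq_true, List.mem_range, bne_iff_ne, ne_eq] at h
  obtain ⟨i, hi, j, hj, hij⟩ := h
  intro h1
  have h2 : toM 21 12 c ⟨i, hi⟩ ⟨j, hj⟩ = (1 : Mat) ⟨i, hi⟩ ⟨j, hj⟩ :=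
    congrFun (congrFun h1 ⟨i, hi⟩) ⟨j, hj⟩
  rw [toM_apply, Matrix.one_apply] at h2
  apply hij
  have h3 : ((ent c i j : ℕ) : ZMod 21) = ((if i = j then 1 else 0 : ℕ) : ZMod 21) := by
    rw [h2]
    by_cases hh : i = j
    · rw [if_pos hh, if_pos (Fin.ext hh)]; simp
    · rw [if_neg hh, if_neg (fun h' => hh (congrArg Fin.val h'))]; simp
  have h4 := (ZMod.natCast_eq_natCast_iff' _ _ _).1 h3
  show ent c i j % 21 = _
  rw [h4]
  split <;> rfl

/-- the test that a matrix has order `n` -/
def ordExact (c : List (List ℕ)) (n : ℕ) : Bool :=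
  (powL 21 12 (transp 12 c) n == idL 12) &&
    (List.range n).all fun j => j == 0 || neOne (powL 21 12 (transp 12 c) j)

theorem ordExact_sound {c : List (List ℕ)} {n : ℕ} (hn : 0 < n) (h : ordExact c n = true) :
    orderOf (tm c) = n := by
  unfold ordExact at h
  simp only [Bool.and_eq_true, beq_iff_eq, List.all_eq_true, List.mem_range, Bool.or_eq_true] at h
  obtain ⟨h1, h2⟩ := h
  rw [orderOf_eq_iff hn]
  constructor
  · have := congrArg (toM 21 12) h1
    rwa [toM_powL, toM_idL] at this
  · intro m hm hm0 hpow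
    rcases h2 m hm with h3 | h3
    · omega
    · apply neOne_sound h3
      show toM 21 12 _ = 1
      rw [toM_powL]
      exact hpow

/-- codes of the elements of the orders 10, 8, 3, 5 -/
def c10 : List (List ℕ) := mulT 21 gA gBt
/-- see `c10` -/
def c8 : List (List ℕ) := mulT 21 c10 gCt
/-- see `c10` -/
def c3 : List (List ℕ) := mulT 21 gB gBt
/-- see `c10` -/
def c5 : List (List ℕ) := mulT 21 (mulT 21 (mulT 21 gA gAt) gAt) gBt

theorem chk_w12 : ordExact gC 12 = true := by decide +kernel
theorem chk_w10 : ordExact c10 10 = true := by decide +kernel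
theorem chk_w8 : ordExact c8 8 = true := by decide +kernel
theorem chk_w3 : ordOne (c3, (3, 3)) = true := by decide +kernel
theorem chk_w5 : ordOne (c5, (5, 3)) = true := by decide +kernel
theorem chk_w3' : Nat.mod (ent (horner 21 12 (transp 12 c3) 3) 0 6) 21 = 7 := by decide +kernel
theorem chk_w5' : Nat.mod (ent (horner 21 12 (transp 12 c5) 5) 0 3) 21 = 7 := by decide +kernel
theorem chk_w5'' : neOne (powL 21 12 (transp 12 c5) 3) = true := by decide +kernel

end Cfsg.Agent.A10Spec
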